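import Groth.Agent.Lib.QAffOrb15.Unip
import Groth.Agent.Lib.TorPts21.BorelCover
import Groth.Agent.Lib.BorelFix21.Borels

/-!
# Saturations of closed orbits of Borel subgroups
-/

set_option autoImplicit false
set_option linter.style.haveILetI false
set_option linter.unusedSectionVars false
set_option maxSynthPendingDepth 3
set_option synthInstance.maxHeartbeats 400000
set_option backward.isDefEq.respectTransparency false
set_option backward.isDefEq.respectTransparency.types false

universe u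

open CategoryTheory Limits MonoidalCategory CartesianMonoidalCategory MonObj GrpObj AlgebraicGeometry

noncomputable section

namespace Groth.Agent.QAffOrb15

variable {k : Type u} [Field k] [IsAlgClosed k]

local notation "kp" => VecGrp.pt k k

/-- A closed set not contained in a locally closed one has a rational point outside it. -/
theorem exists_pt_mem_diff {Y : Over (Spec (CommRingCat.of k))} [LocallyOfFiniteType Y.hom] {Z O : Set Y.left}
    (hZ : IsClosed Z) (hO : IsLocallyClosed O) {y : Y.left} (hy : y ∈ Z) (hy' : y ∉ O) :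
    ∃ z : kp ⟶ Y, InvRing21.img z ∈ Z ∧ InvRing21.img z ∉ O := by
  obtain ⟨U, W, hU, hW, rfl⟩ := hO
  by_cases hyU : y ∈ U
  · obtain ⟨z, hz, -, hz'⟩ := BorelFix21.exists_pt_mem
      (hZ.isLocallyClosed.inter (hU.isLocallyClosed.inter hW.isOpen_compl.isLocallyClosed))
      ⟨y, hy, hyU, fun h => hy' ⟨hyU, h⟩⟩
    exact ⟨z, hz, fun h => hz' h.2⟩
  · obtain ⟨z, hz, hz'⟩ := BorelFix21.exists_pt_mem (hZ.inter hU.isClosed_compl).isLocallyClosed ⟨y, hy, hyU⟩
    exact ⟨z, hz, fun h => hz' h.1⟩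

/-- If the orbit of a point under a Borel subgroup is closed, so is its orbit under the whole group. -/
theorem isClosed_orbit_of_borel {L B X : Over (Spec (CommRingCat.of k))} [GrpObj L] [GrpObj B] [IsAffine L.left]
    [Smooth L.hom] [ConnectedSpace L.left] {iB : B ⟶ L} [IsMonHom iB] (hB : Red.IsBorelOver k iB)
    [LocallyOfFiniteType X.hom] [IsSeparated X.hom] (a : AlgGrp.Action L X) (x : 𝟙_ (Over (Spec (CommRingCat.of k))) ⟶ X)
    (hcl : IsClosed (Set.range ((comap a iB).orbitMap x).left)) :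
    IsClosed (Set.range (a.orbitMap x).left) := by
  obtain ⟨-, hc, hs, hn, -, -⟩ := id hB
  haveI := hc; haveI := hs; haveI := hn
  haveI : IsAffine B.left := isAffine_of_isAffineHom iB.left
  obtain ⟨Q, qa, o, hQ, hQs, hQq⟩ := GrassAct21.exists_quotient_affine iB
  haveI := hQs; haveI := hQq
  haveI : IsProper Q.hom := BorelFix21.isProper_of_borel_le hQ (𝟙 B) (by rw [Category.id_comp]; exact hB)
  obtain ⟨hQl, hflat, hsurj, hpb⟩ := id hQ
  haveI := hQl; haveI := hflat; haveI := hsurj
  set q := qa.orbitMap o with hq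
  set O := Set.range (a.orbitMap x).left with hO
  set OB := Set.range ((comap a iB).orbitMap x).left with hOB
  let e : L ⊗ X ⟶ X := lift (fst L X)⁻¹ (snd L X) ≫ a.act
  have he : ∀ (g : kp ⟶ L) (z : kp ⟶ X), lift g z ≫ e = lift g⁻¹ z ≫ a.act := fun g z => by
    show lift g z ≫ lift (fst L X)⁻¹ (snd L X) ≫ a.act = _
    rw [comp_lift_assoc, GrpObj.comp_inv, lift_fst, lift_snd]
  let C : Set (L ⊗ X).left := e.left ⁻¹' OB
  have hC : IsClosed C := hcl.preimage e.left.continuous
  let p : L ⊗ X ⟶ Q ⊗ X := q ▷ X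
  haveI : LocallyOfFiniteType (Q ⊗ X).hom :=
    inferInstanceAs (LocallyOfFiniteType (pullback.fst Q.hom X.hom ≫ Q.hom))
  haveI : IsSeparated (Q ⊗ X).hom := inferInstanceAs (IsSeparated (pullback.fst Q.hom X.hom ≫ Q.hom))
  haveI : LocallyOfFiniteType (L ⊗ X).hom :=
    inferInstanceAs (LocallyOfFiniteType (pullback.fst L.hom X.hom ≫ L.hom))
  haveI : IsLocallyNoetherian (Q ⊗ X).left := LocallyOfFiniteType.isLocallyNoetherian (Q ⊗ X).hom
  haveI : Flat p.left := MorphismProperty.of_isPullback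
    (GITQuot.isPullback_whiskerRight q X).flip hflat
  haveI : Surjective p.left := MorphismProperty.of_isPullback
    (GITQuot.isPullback_whiskerRight q X).flip hsurj
  haveI : LocallyOfFiniteType p.left := AlgGrpBasic19.lft_left p
  haveI : LocallyOfFinitePresentation p.left := VarDim.locallyOfFinitePresentation_of_locallyNoetherian p.left
  have hpo : IsOpenMap p.left := p.left.isOpenMap
  have hOBact : ∀ (b : kp ⟶ B) (z : kp ⟶ X), InvRing21.img z ∈ OB →
      InvRing21.img (lift (b ≫ iB) z ≫ a.act) ∈ OB := by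
    intro b z hz
    obtain ⟨b', hb'⟩ := BorelFix21.exists_pt_mem
      ((TorPts21.isClosed_singleton_img z).preimage ((comap a iB).orbitMap x).left.continuous).isLocallyClosed hz
    have hz' : b' ≫ (comap a iB).orbitMap x = z := TorPts21.pt_ext hb'
    refine ⟨InvRing21.img (b * b'), ?_⟩
    show InvRing21.img ((b * b') ≫ (comap a iB).orbitMap x) = _
    congr 1
    rw [← hz', orbitMap_comap, ← Category.assoc, ← Category.assoc, MonObj.mul_comp, AlgGrp.Action.comp_orbitMap,
      AlgGrp.Action.comp_orbitMap, AlgGrpBasic19.act_mul]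
  have hsat : ∀ c d : kp ⟶ L ⊗ X, c ≫ p = d ≫ p → InvRing21.img d ∈ C → InvRing21.img c ∈ C := by
    intro c d hcd hd
    have h1 : (c ≫ fst L X) ≫ q = (d ≫ fst L X) ≫ q := by
      have := congrArg (· ≫ fst Q X) hcd
      simpa only [p, Category.assoc, whiskerRight_fst] using this
    have h2 : c ≫ snd L X = d ≫ snd L X := by
      have := congrArg (· ≫ snd Q X) hcd
      simpa only [p, Category.assoc, whiskerRight_snd] using this
    obtain ⟨b, hb⟩ : ∃ b : kp ⟶ B, (c ≫ fst L X) = (d ≫ fst L X) * (b ≫ iB) := by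
      refine ⟨hpb.lift _ _ h1.symm ≫ snd L B, ?_⟩
      have e1 := hpb.lift_fst _ _ h1.symm
      have e2 := hpb.lift_snd _ _ h1.symm
      generalize hl : hpb.lift _ _ h1.symm = l at e1 e2 ⊢
      rw [InvRing21.whisker_mul, MonObj.comp_mul, ← Category.assoc l (snd L B), e1] at e2
      rw [Category.assoc]
      exact e2.symm
    have ec : c ≫ e = lift (b⁻¹ ≫ iB) (d ≫ e) ≫ a.act := by
      rw [show c = lift (c ≫ fst L X) (c ≫ snd L X) from hom_ext _ _ (lift_fst _ _).symm (lift_snd _ _).symm,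
        show d ≫ e = lift (d ≫ fst L X) (d ≫ snd L X) ≫ e from
          congrArg (· ≫ e) (hom_ext _ _ (lift_fst _ _).symm (lift_snd _ _).symm),
        he, he, hb, h2, _root_.mul_inv_rev, ← GrpObj.inv_comp, AlgGrpBasic19.act_mul]
    show InvRing21.img (c ≫ e) ∈ OB
    rw [ec]
    exact hOBact _ _ hd
  have hpC : IsClosed (p.left '' C) := by
    have hW : IsOpen (p.left '' Cᶜ) := hpo _ hC.isOpen_compl
    suffices h : p.left '' C = (p.left '' Cᶜ)ᶜ by rw [h]; exact hW.isClosed_compl
    refine Set.Subset.antisymm ?_ ?_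
    · rintro _ ⟨c₀, hc₀, rfl⟩ hmem
      obtain ⟨d, hdC, hdW⟩ := BorelFix21.exists_pt_mem
        (hC.isLocallyClosed.inter (hW.preimage p.left.continuous).isLocallyClosed) ⟨c₀, hc₀, hmem⟩
      obtain ⟨c', hc'⟩ := hdW
      have hclosed : IsClosed ({InvRing21.img (d ≫ p)} : Set (Q ⊗ X).left) :=
        TorPts21.isClosed_singleton_img (d ≫ p)
      obtain ⟨c, hcC, hcp⟩ := BorelFix21.exists_pt_mem
        (hC.isOpen_compl.isLocallyClosed.inter (hclosed.preimage p.left.continuous).isLocallyClosed) ⟨c', hc'.1, hc'.2⟩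
      exact hcC (hsat c d (TorPts21.pt_ext hcp) hdC)
    · intro z hz
      obtain ⟨w, rfl⟩ := p.left.surjective z
      by_contra hne
      exact hz ⟨w, fun hwC => hne ⟨w, hwC, rfl⟩, rfl⟩
  set Z := (snd Q X).left '' (p.left '' C) with hZdef
  haveI : UniversallyClosed Q.hom := inferInstance
  haveI : UniversallyClosed (snd Q X).left := inferInstanceAs (UniversallyClosed (pullback.snd Q.hom X.hom))
  have hZ : IsClosed Z := (snd Q X).left.isClosedMap _ hpC
  haveI : LocallyOfFiniteType L.hom := inferInstance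
  haveI : QuasiCompact L.hom := inferInstance
  have hOZ : O ⊆ Z := by
    rintro _ ⟨g₀, rfl⟩
    by_contra hne
    obtain ⟨g, hg⟩ := BorelFix21.exists_pt_mem
      (hZ.preimage (a.orbitMap x).left.continuous).isOpen_compl.isLocallyClosed ⟨g₀, hne⟩
    refine hg ?_
    let d : kp ⟶ L ⊗ X := lift g (g ≫ a.orbitMap x)
    refine ⟨p.left (InvRing21.img d), ⟨InvRing21.img d, ?_, rfl⟩, ?_⟩
    · show InvRing21.img (d ≫ e) ∈ OB
      refine ⟨InvRing21.img (1 : kp ⟶ B), ?_⟩
      show InvRing21.img ((1 : kp ⟶ B) ≫ (comap a iB).orbitMap x) = _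
      congr 1
      rw [he, orbitMap_comap, ← Category.assoc, MonObj.one_comp, AlgGrp.Action.comp_orbitMap,
        AlgGrp.Action.comp_orbitMap, AlgGrpBasic19.act_one, ← AlgGrpBasic19.act_mul, inv_mul_cancel,
        AlgGrpBasic19.act_one]
    · show InvRing21.img (d ≫ p ≫ snd Q X) = InvRing21.img (g ≫ a.orbitMap x)
      rw [whiskerRight_snd, lift_snd]
  have hOlc : IsLocallyClosed O := OrbitTop19.isLocallyClosed_range_orbitMap a x
  have hZO : Z ⊆ O := by
    intro z₀ hz₀
    by_contra hne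
    obtain ⟨z, hzZ, hzO⟩ := exists_pt_mem_diff hZ hOlc hz₀ hne
    obtain ⟨-, ⟨w, hwC, rfl⟩, hwz⟩ := hzZ
    haveI : JacobsonSpace X.left := LocallyOfFiniteType.jacobsonSpace X.hom
    have hzcl : IsClosed ({InvRing21.img z} : Set X.left) := TorPts21.isClosed_singleton_img z
    obtain ⟨d, hdC, hdz⟩ := BorelFix21.exists_pt_mem
      (hC.isLocallyClosed.inter (hzcl.preimage (p ≫ snd Q X).left.continuous).isLocallyClosed) ⟨w, hwC, hwz⟩
    have hdz' : d ≫ p ≫ snd Q X = z := TorPts21.pt_ext hdz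
    rw [whiskerRight_snd] at hdz'
    obtain ⟨b, hb⟩ : ∃ b : kp ⟶ B, b ≫ (comap a iB).orbitMap x = d ≫ e := by
      obtain ⟨b₀, hb₀⟩ := hdC
      have hscl : IsClosed ({InvRing21.img (d ≫ e)} : Set X.left) := TorPts21.isClosed_singleton_img (d ≫ e)
      obtain ⟨b, hb⟩ := BorelFix21.exists_pt_mem
        (hscl.preimage ((comap a iB).orbitMap x).left.continuous).isLocallyClosed ⟨b₀, hb₀⟩
      exact ⟨b, TorPts21.pt_ext hb⟩
    refine hzO ⟨InvRing21.img ((d ≫ fst L X) * (b ≫ iB)), ?_⟩
    show InvRing21.img (((d ≫ fst L X) * (b ≫ iB)) ≫ a.orbitMap x) = _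
    congr 1
    rw [AlgGrp.Action.comp_orbitMap, AlgGrpBasic19.act_mul, ← AlgGrp.Action.comp_orbitMap a (b ≫ iB), Category.assoc,
      ← orbitMap_comap, hb,
      show d ≫ e = lift (d ≫ fst L X) (d ≫ snd L X) ≫ e from
        congrArg (· ≫ e) (hom_ext _ _ (lift_fst _ _).symm (lift_snd _ _).symm), he, ← AlgGrpBasic19.act_mul,
      mul_inv_cancel, AlgGrpBasic19.act_one, hdz']
  exact (Set.Subset.antisymm hOZ hZO) ▸ hZ

end Groth.Agent.QAffOrb15
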