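import Groth.Agent.Lib.QAffOrb15.Saturate
import Groth.Agent.Lib.TorPts21.UnipPart
import Groth.Agent.Lib.AffPart25.AffHom
import Groth.Agent.Lib.AntiAffMin19.Decomp

/-!
# Orbits on quasi-affine schemes of points fixed by all tori
-/

set_option autoImplicit false
set_option linter.style.haveILetI false
set_option linter.unusedSectionVars false
set_option maxSynthPendingDepth 3
set_option synthInstance.maxHeartbeats 400000
set_option backward.isDefEq.respectTransparency false
set_option backward.isDefEq.respectTransparency.types false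

universe u

open CategoryTheory Limits MonoidalCategory CartesianMonoidalCategory MonObj GrpObj AlgebraicGeometry

noncomputable section

namespace Groth.Agent.QAffOrb15

variable {k : Type u} [Field k] [IsAlgClosed k]

local notation "kp" => VecGrp.pt k k

/-- All subtori fix the point. -/
def FixTori {G X : Over (Spec (CommRingCat.of k))} [GrpObj G] (a : AlgGrp.Action G X)
    (x : 𝟙_ (Over (Spec (CommRingCat.of k))) ⟶ X) : Prop :=
  ∀ (T : Over (Spec (CommRingCat.of k))) [GrpObj T] (i : T ⟶ G) [IsMonHom i],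
    Mono i → Red.IsTorus T → i ≫ a.orbitMap x = toUnit T ≫ x

theorem FixTori.comap {G H X : Over (Spec (CommRingCat.of k))} [GrpObj G] [GrpObj H] {a : AlgGrp.Action G X}
    {x : 𝟙_ (Over (Spec (CommRingCat.of k))) ⟶ X} (h : FixTori a x) (f : H ⟶ G) [IsMonHom f] [Mono f] :
    FixTori (QAffOrb15.comap a f) x := fun T _ i _ hi hT => by
  haveI := hi
  rw [orbitMap_comap, ← Category.assoc]
  exact h T (i ≫ f) (mono_comp _ _) hT

theorem FixTori.act {G X : Over (Spec (CommRingCat.of k))} [GrpObj G] {a : AlgGrp.Action G X}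
    {x : 𝟙_ (Over (Spec (CommRingCat.of k))) ⟶ X} (h : FixTori a x)
    (g : 𝟙_ (Over (Spec (CommRingCat.of k))) ⟶ G) : FixTori a (g ≫ a.orbitMap x) := fun T _ i _ hi hT => by
  haveI := hi
  haveI : IsMonHom (AGF.conjBy g⁻¹ i) := TorPts21.isMonHom_conjBy g⁻¹ i
  haveI : Mono (AGF.conjBy g⁻¹ i) := ⟨fun u v huv => by
    rw [TorPts21.comp_conjBy, TorPts21.comp_conjBy] at huv
    exact (cancel_mono i).1 (mul_left_cancel (mul_right_cancel huv))⟩
  have h1 := h T (AGF.conjBy g⁻¹ i) inferInstance hT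
  rw [AlgGrp.Action.comp_orbitMap] at h1
  have h2 : toUnit T ≫ g ≫ a.orbitMap x = lift (toUnit T ≫ g) (toUnit T ≫ x) ≫ a.act := by
    rw [← Category.assoc, AlgGrp.Action.comp_orbitMap]
  rw [AlgGrp.Action.comp_orbitMap, h2]
  conv_rhs => rw [← h1]
  rw [← AlgGrpBasic19.act_mul, ← AlgGrpBasic19.act_mul]
  congr 2
  simp only [AGF.conjBy, GrpObj.comp_inv]
  group

/-- The orbit of a connected solvable group of a point fixed by its tori is closed. -/
theorem isClosed_orbit_solvable {B X : Over (Spec (CommRingCat.of k))} [GrpObj B] [IsAffine B.left] [Smooth B.hom]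
    [ConnectedSpace B.left] (hB : Red.IsSolvableGrp B) [X.left.IsQuasiAffine] [LocallyOfFiniteType X.hom]
    (a : AlgGrp.Action B X) (x : 𝟙_ (Over (Spec (CommRingCat.of k))) ⟶ X) (hx : FixTori a x) :
    IsClosed (Set.range (a.orbitMap x).left) := by
  obtain ⟨n, r, hr, hrc, hu⟩ := TorPts21.exists_upper_embedding (𝟙 B) hB
  haveI := hr; haveI := hrc
  haveI : IsClosedImmersion (𝟙 B : B ⟶ B).left := inferInstanceAs (IsClosedImmersion (𝟙 B.left))
  obtain ⟨U, _, u, hum, hucl, hus, hun, -, huns, hupts⟩ := TorPts21.exists_unip_part r (𝟙 B) hu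
  haveI := hum; haveI := hucl; haveI := hus; haveI := hun
  haveI : IsAffine U.left := isAffine_of_isAffineHom u.left
  have hu' : (TorPts21.mtx r).range ≤ MatGrp21.upper := by
    rintro _ ⟨z, rfl⟩
    have h := hu ⟨z, rfl⟩
    rwa [TorPts21.mtx_comp, Category.comp_id] at h
  obtain ⟨D⟩ := MatGrp21.nonempty_decomp hu'  (TorPts21.isClosed_range_mtx r) (TorPts21.isPreirreducible_range_mtx' r)
  obtain ⟨σ, _, d, C, s, hsm, hsmono, hsc, hsr⟩ := TorPts21.exists_torus_subgroup r D.le D.closed D.irreducible D.P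
    fun t ht => by rw [D.diag t ht]; exact Matrix.isDiag_diagonal _
  haveI := hsm
  have hσ := hx σ s hsmono (TorPts21.isTorus_of_chars C)
  have hU := isClosed_orbit huns (QAffOrb15.comap a u) x
  rw [orbitMap_comap] at hU
  suffices h : Set.range (a.orbitMap x).left ⊆ Set.range (u ≫ a.orbitMap x).left by
    rwa [h.antisymm (by rintro _ ⟨w, rfl⟩; exact ⟨_, rfl⟩)]
  rintro _ ⟨g₀, rfl⟩
  by_contra hne
  obtain ⟨g, hg⟩ := BorelFix21.exists_pt_mem
    (hU.preimage (a.orbitMap x).left.continuous).isOpen_compl.isLocallyClosed ⟨g₀, hne⟩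
  refine hg ?_
  obtain ⟨t, ht, htm⟩ := D.exists_mem (TorPts21.mtx r g⁻¹) ⟨_, rfl⟩
  rw [← hsr] at ht
  obtain ⟨y, rfl⟩ := ht
  obtain ⟨y', hy'⟩ := (hupts ((y ≫ s)⁻¹ * g⁻¹)).2 (by
    rw [TorPts21.mtx_comp, Category.comp_id, map_mul, map_inv]
    rw [TorPts21.mtx_comp] at htm
    exact htm)
  refine ⟨InvRing21.img y'⁻¹, ?_⟩
  show InvRing21.img (y'⁻¹ ≫ u ≫ a.orbitMap x) = InvRing21.img (g ≫ a.orbitMap x)
  congr 1
  have e : g = (y'⁻¹ ≫ u) * (y⁻¹ ≫ s) := by
    rw [GrpObj.inv_comp, hy', GrpObj.inv_comp, _root_.mul_inv_rev, _root_.inv_inv, _root_.inv_inv,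
      mul_inv_cancel_right]
  rw [e, AlgGrp.Action.comp_orbitMap a (_ * _), AlgGrpBasic19.act_mul, ← AlgGrp.Action.comp_orbitMap a (y⁻¹ ≫ s),
    Category.assoc y⁻¹, hσ, ← Category.assoc y⁻¹, comp_toUnit, ← Category.assoc,
    AlgGrp.Action.comp_orbitMap a (y'⁻¹ ≫ u)]

/-- The orbit of a connected smooth affine group of a point fixed by its tori is closed. -/
theorem isClosed_orbit_affine {L X : Over (Spec (CommRingCat.of k))} [GrpObj L] [IsAffine L.left] [Smooth L.hom]
    [ConnectedSpace L.left] [X.left.IsQuasiAffine] [LocallyOfFiniteType X.hom] [IsSeparated X.hom]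
    (a : AlgGrp.Action L X) (x : 𝟙_ (Over (Spec (CommRingCat.of k))) ⟶ X) (hx : FixTori a x) :
    IsClosed (Set.range (a.orbitMap x).left) := by
  obtain ⟨B, _, b, hB, -⟩ := BorelFix21.exists_isBorelOver L
  obtain ⟨hm, hc, hs, hn, hsol, -⟩ := id hB
  haveI := hm; haveI := hc; haveI := hs; haveI := hn
  haveI : IsAffine B.left := isAffine_of_isAffineHom b.left
  haveI : Mono b := Over.mono_of_mono_left b
  exact isClosed_orbit_of_borel hB a x (isClosed_orbit_solvable hsol _ x (hx.comap b))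

/-- The orbit of a connected smooth group of a point fixed by its tori is closed. -/
theorem isClosed_orbit_smooth {G X : Over (Spec (CommRingCat.of k))} [GrpObj G] [Smooth G.hom] [QuasiCompact G.hom]
    [ConnectedSpace G.left] [X.left.IsQuasiAffine] [LocallyOfFiniteType X.hom] [IsSeparated X.hom]
    (a : AlgGrp.Action G X) (x : 𝟙_ (Over (Spec (CommRingCat.of k))) ⟶ X) (hx : FixTori a x) :
    IsClosed (Set.range (a.orbitMap x).left) := by
  obtain ⟨N, _, i, A, _, q, hi, hic, hNs, hNc, hNa, hN, hq, hqf, hqs, -, hker, hA⟩ :=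
    AffPart25.exists_chevalley_any G
  haveI := hi; haveI := hic; haveI := hNs; haveI := hNc; haveI := hNa
  haveI := hq; haveI := hqf; haveI := hqs; haveI := hA
  haveI : ConnectedSpace A.left := q.left.surjective.connectedSpace q.left.continuous
  haveI : LocallyOfFiniteType G.hom := inferInstance
  haveI : QuasiSeparated G.hom := AlgGrpBasic19.quasiSeparatedSpace
  obtain ⟨-, hlM, hqM, hbM⟩ := AntiAff20.exists_antiAffine_kernel G
  obtain ⟨gM, hmM⟩ := AntiAffMin19.exists_kernel_grp G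
  haveI := hlM; haveI := hqM; haveI := hmM
  haveI := AntiAffMin19.isClosedImmersion_kernel G
  let M := pullback (AffGrp19.toAff G) η[AffGrp19.aff G]
  let j : M ⟶ G := pullback.fst (AffGrp19.toAff G) η[AffGrp19.aff G]
  have hmax : ∀ (M' : Over (Spec (CommRingCat.of k))) [GrpObj M'] [LocallyOfFiniteType M'.hom] [QuasiCompact M'.hom]
      (j' : M' ⟶ G) [IsMonHom j'] [IsClosedImmersion j'.left],
      Function.Bijective (AffGrp19.structRing M').hom → ∃ g : M' ⟶ M, g ≫ j = j' := fun M' _ _ _ j' _ _ hb => by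
    haveI : QuasiSeparated M'.hom := AlgGrpBasic19.quasiSeparatedSpace
    exact AntiAffMin19.exists_factor G hb j'
  haveI := AntiAffMin19.surjective_mul i q hker j (AntiAffMin19.surjective_comp i q hker j hN hmax)
  have hMfix : j ≫ a.orbitMap x = toUnit M ≫ x := by
    haveI : QuasiSeparated M.hom := AlgGrpBasic19.quasiSeparatedSpace
    haveI : CompactSpace X.left := inferInstance
    obtain ⟨w, hw⟩ := AffGrp19.exists_const hbM (j ≫ a.orbitMap x ≫ AffGrp19.toAff X)
    have hw' : w = x ≫ AffGrp19.toAff X := by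
      have h1 := congrArg (η[M] ≫ ·) hw
      simp only [← Category.assoc] at h1
      rw [toUnit_unique (η[M] ≫ toUnit M) (𝟙 _), Category.id_comp, IsMonHom.one_hom,
        show η[G] ≫ a.orbitMap x = x by
          rw [AlgGrp.Action.comp_orbitMap, show (η[G] : 𝟙_ _ ⟶ G) = 1 from MonObj.one_eq_one G, AlgGrpBasic19.act_one,
            toUnit_unique (toUnit (𝟙_ (Over (Spec (CommRingCat.of k))))) (𝟙 _), Category.id_comp]] at h1
      exact h1.symm
    haveI : IsOpenImmersion (AffGrp19.toAff X).left := inferInstanceAs (IsOpenImmersion X.left.toSpecΓ)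
    haveI : Mono (AffGrp19.toAff X) := Over.mono_of_mono_left _
    rw [← cancel_mono (AffGrp19.toAff X), Category.assoc, hw, hw', Category.assoc]
  have hN' := isClosed_orbit_affine (QAffOrb15.comap a i) x (by
    haveI : Mono i := Over.mono_of_mono_left i
    exact hx.comap i)
  rw [orbitMap_comap] at hN'
  suffices h : Set.range (a.orbitMap x).left ⊆ Set.range (i ≫ a.orbitMap x).left by
    rwa [h.antisymm (by rintro _ ⟨w, rfl⟩; exact ⟨_, rfl⟩)]
  rintro _ ⟨g₀, rfl⟩
  by_contra hne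
  haveI : LocallyOfFiniteType (N ⊗ M).hom :=
    inferInstanceAs (LocallyOfFiniteType (pullback.fst N.hom M.hom ≫ N.hom))
  obtain ⟨w₀, rfl⟩ := ((i ⊗ₘ j) ≫ μ[G]).left.surjective g₀
  obtain ⟨w, hw⟩ := BorelFix21.exists_pt_mem
    ((hN'.preimage (((i ⊗ₘ j) ≫ μ[G]) ≫ a.orbitMap x).left.continuous).isOpen_compl).isLocallyClosed ⟨w₀, hne⟩
  refine hw ⟨InvRing21.img (w ≫ fst N M), ?_⟩
  show InvRing21.img ((w ≫ fst N M) ≫ i ≫ a.orbitMap x) = InvRing21.img (w ≫ ((i ⊗ₘ j) ≫ μ[G]) ≫ a.orbitMap x)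
  congr 1
  have e : w ≫ (i ⊗ₘ j) ≫ μ[G] = (w ≫ fst N M ≫ i) * (w ≫ snd N M ≫ j) := by
    rw [← lift_fst_comp_snd_comp, ← Hom.mul_def, MonObj.comp_mul]
  rw [← Category.assoc w ((i ⊗ₘ j) ≫ μ[G]), e, AlgGrp.Action.comp_orbitMap a (_ * _), AlgGrpBasic19.act_mul,
    ← AlgGrp.Action.comp_orbitMap a (w ≫ snd N M ≫ j)]
  simp only [Category.assoc]
  rw [hMfix, ← Category.assoc (snd N M), comp_toUnit, ← Category.assoc w (toUnit (N ⊗ M)), comp_toUnit,
    ← Category.assoc (fst N M), ← Category.assoc w, AlgGrp.Action.comp_orbitMap a (w ≫ fst N M ≫ i)]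

/-- Finitely many translates of an open subgroup contain all rational points. -/
theorem exists_finite_cosets {G G₀ : Over (Spec (CommRingCat.of k))} [GrpObj G] [GrpObj G₀]
    [LocallyOfFiniteType G.hom] [CompactSpace G.left] (j : G₀ ⟶ G) [IsMonHom j] [IsOpenImmersion j.left] :
    ∃ s : Finset (kp ⟶ G), ∀ x : kp ⟶ G, ∃ c ∈ s, ∃ y, y ≫ j = c * x := by
  have hopen : ∀ c : kp ⟶ G, IsOpen ((InvRing21.lTr c).left.base ⁻¹' Set.range j.left.base) := fun c =>
    j.left.isOpenEmbedding.isOpen_range.preimage (InvRing21.lTr c).left.continuous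
  have hcover : (Set.univ : Set G.left) ⊆ ⋃ c, (InvRing21.lTr c).left.base ⁻¹' Set.range j.left.base := by
    intro r _
    by_contra hr
    obtain ⟨q, hq⟩ := BorelFix21.exists_pt_mem (isOpen_iUnion hopen).isClosed_compl.isLocallyClosed ⟨r, hr⟩
    refine hq (Set.mem_iUnion.2 ⟨q⁻¹, ?_⟩)
    rw [InvRing21.img_lTr_mem, inv_mul_cancel]
    exact ⟨1, MonObj.one_comp j⟩
  obtain ⟨s, hs⟩ := isCompact_univ.elim_finite_subcover _ hopen hcover
  refine ⟨s, fun x => ?_⟩
  obtain ⟨c, hc, hx⟩ := Set.mem_iUnion₂.1 (hs (Set.mem_univ (InvRing21.img x)))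
  exact ⟨c, hc, (InvRing21.img_lTr_mem j x c).1 hx⟩

/-- Over an algebraically closed field, the orbit of a point fixed by all tori is closed. -/
theorem isClosed_orbit_of_fixTori {G X : Over (Spec (CommRingCat.of k))} [GrpObj G] [LocallyOfFiniteType G.hom]
    [QuasiCompact G.hom] [X.left.IsQuasiAffine] [LocallyOfFiniteType X.hom]
    (a : AlgGrp.Action G X) (x : 𝟙_ (Over (Spec (CommRingCat.of k))) ⟶ X) (hx : FixTori a x) :
    IsClosed (Set.range (a.orbitMap x).left) := by
  haveI : IsSeparated X.hom := inferInstance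
  obtain ⟨H, _, r, _, _, _, -, _⟩ := BorelFix21.exists_reduced_subgroup G
  haveI : LocallyOfFiniteType H.hom := inferInstance
  haveI : QuasiCompact H.hom := by rw [← Over.w r]; infer_instance
  haveI : CompactSpace H.left := QuasiCompact.compactSpace_of_compactSpace H.hom
  obtain ⟨H₀, _, j, _, _, _⟩ := BorelFix21.exists_identity_component H
  haveI : IsLocallyNoetherian H.left := LocallyOfFiniteType.isLocallyNoetherian H.hom
  haveI : IsNoetherian H.left := ⟨⟩
  haveI : QuasiCompact j.left := inferInstance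
  haveI : QuasiCompact H₀.hom := by rw [← Over.w j]; infer_instance
  haveI : Smooth H₀.hom := by rw [← Over.w j]; infer_instance
  haveI : Mono (j ≫ r) := by
    haveI : Mono j := Over.mono_of_mono_left j
    haveI : Mono r := Over.mono_of_mono_left r
    exact mono_comp _ _
  obtain ⟨s, hs⟩ := exists_finite_cosets j
  let a₀ := QAffOrb15.comap a (j ≫ r)
  haveI : IsIso (toUnit kp) := by
    haveI : IsIso ((Over.forget _).map (toUnit kp)) := by
      show IsIso (Spec.map (CommRingCat.ofHom (algebraMap k k)))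
      rw [Algebra.algebraMap_self, CommRingCat.ofHom_id, Spec.map_id]
      infer_instance
    exact isIso_of_reflects_iso (toUnit kp) (Over.forget _)
  let cG : (kp ⟶ H) → (𝟙_ (Over (Spec (CommRingCat.of k))) ⟶ G) := fun c => inv (toUnit kp) ≫ c ≫ r
  let U : Set X.left := ⋃ c ∈ s, Set.range (a₀.orbitMap (cG c ≫ a.orbitMap x)).left
  have hU : IsClosed U := s.finite_toSet.isClosed_biUnion fun c _ =>
    isClosed_orbit_smooth a₀ _ ((hx.act (cG c)).comap (j ≫ r))
  have hle : U ⊆ Set.range (a.orbitMap x).left := by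
    refine Set.iUnion₂_subset fun c _ => ?_
    rw [orbitMap_comap]
    have : a.orbitMap (cG c ≫ a.orbitMap x) = ((𝟙 G) * (toUnit G ≫ cG c)) ≫ a.orbitMap x := by
      rw [AlgGrp.Action.comp_orbitMap a ((𝟙 G) * (toUnit G ≫ cG c)), AlgGrpBasic19.act_mul]
      show lift (𝟙 G) (toUnit G ≫ cG c ≫ a.orbitMap x) ≫ a.act = _
      congr 2
      rw [← Category.assoc, AlgGrp.Action.comp_orbitMap]
    rw [this]
    rintro _ ⟨w, rfl⟩
    exact ⟨_, rfl⟩
  suffices Set.range (a.orbitMap x).left ⊆ U by rwa [this.antisymm hle]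
  have hsurj : Set.range (a.orbitMap x).left = Set.range (r ≫ a.orbitMap x).left := by
    rw [Over.comp_left]
    exact (Function.Surjective.range_comp r.left.surjective _).symm
  rw [hsurj, Set.range_subset_iff]
  by_contra hne
  push_neg at hne
  obtain ⟨h, hh⟩ := BorelFix21.exists_pt_mem
    (hU.preimage (r ≫ a.orbitMap x).left.continuous).isOpen_compl.isLocallyClosed hne
  refine hh ?_
  obtain ⟨c, hc, y, hy⟩ := hs h⁻¹
  refine Set.mem_iUnion₂.2 ⟨c, hc, InvRing21.img y⁻¹, ?_⟩
  show InvRing21.img (y⁻¹ ≫ a₀.orbitMap (cG c ≫ a.orbitMap x)) = InvRing21.img (h ≫ r ≫ a.orbitMap x)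
  congr 1
  have e1 : toUnit kp ≫ cG c ≫ a.orbitMap x = lift (c ≫ r) (toUnit kp ≫ x) ≫ a.act := by
    show toUnit kp ≫ (inv (toUnit kp) ≫ c ≫ r) ≫ a.orbitMap x = _
    rw [Category.assoc, IsIso.hom_inv_id_assoc, AlgGrp.Action.comp_orbitMap]
  have e2 : h = (y⁻¹ ≫ j) * c := by
    rw [GrpObj.inv_comp, hy, _root_.mul_inv_rev, _root_.inv_inv, inv_mul_cancel_right]
  rw [orbitMap_comap, ← Category.assoc, AlgGrp.Action.comp_orbitMap, e1,
    ← AlgGrpBasic19.act_mul, ← Category.assoc h, AlgGrp.Action.comp_orbitMap, e2, MonObj.mul_comp,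
    Category.assoc]

end Groth.Agent.QAffOrb15
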