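import Groth.Agent.Lib.QAffOrb15.Main
import Groth.Agent.Lib.OrbitTop19.Descend
import Groth.Agent.Lib.BorelFix21.Stabilizer
import Groth.Agent.Lib.BorelFix21.Component
import Groth.Agent.Lib.RedCtr21.HomUnip
import Groth.Agent.Lib.TorPts21.Cartan
import Groth.Prelude.Def_Mor2

/-!
# Orbits of groups without subtori on quasi-affine schemes
-/

set_option autoImplicit false
set_option linter.style.haveILetI false
set_option linter.unusedSectionVars false
set_option maxSynthPendingDepth 3
set_option synthInstance.maxHeartbeats 400000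
set_option backward.isDefEq.respectTransparency false
set_option backward.isDefEq.respectTransparency.types false

universe u

open CategoryTheory Limits MonoidalCategory CartesianMonoidalCategory MonObj GrpObj AlgebraicGeometry
open scoped TensorProduct

noncomputable section

namespace Groth.Agent.QAffOrb15

section Comap

variable {S : Scheme.{u}} {G H X : Over S} [GrpObj G] [GrpObj H]

/-- Restriction of an action along a homomorphism. -/
def comap (a : AlgGrp.Action G X) (f : H ⟶ G) [IsMonHom f] : AlgGrp.Action H X where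
  act := (f ▷ X) ≫ a.act
  one_act := by
    rw [← MonoidalCategory.comp_whiskerRight_assoc, IsMonHom.one_hom f, a.one_act]
  mul_act := by
    rw [← MonoidalCategory.comp_whiskerRight_assoc, IsMonHom.mul_hom f]
    simp only [MonoidalCategory.comp_whiskerRight, MonoidalCategory.whiskerLeft_comp, Category.assoc]
    rw [a.mul_act, ← tensorHom_id (f ⊗ₘ f) X, associator_naturality_assoc, tensorHom_id, tensorHom_def',
      Category.assoc, ← whisker_exchange_assoc]

theorem orbitMap_comap (a : AlgGrp.Action G X) (f : H ⟶ G) [IsMonHom f] (x : 𝟙_ (Over S) ⟶ X) :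
    (comap a f).orbitMap x = f ≫ a.orbitMap x := by
  show lift (𝟙 H) (toUnit H ≫ x) ≫ (f ▷ X) ≫ a.act = f ≫ lift (𝟙 G) (toUnit G ≫ x) ≫ a.act
  rw [lift_whiskerRight_assoc, comp_lift_assoc, Category.comp_id, Category.id_comp, ← Category.assoc f,
    toUnit_unique (f ≫ toUnit G) (toUnit H)]

end Comap

variable {k : Type u} [Field k] [IsAlgClosed k] {G X : Over (Spec (CommRingCat.of k))} [GrpObj G]

local notation "kp" => VecGrp.pt k k

/-- Over an algebraically closed field the orbits of an affine group without subtori on a quasi-affine scheme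
are closed. -/
theorem isClosed_orbit_of_noSubtorus [IsAffine G.left] [LocallyOfFiniteType G.hom] (hG : Red.HasNoSubtorus k G)
    [X.left.IsQuasiAffine] [LocallyOfFiniteType X.hom] (a : AlgGrp.Action G X)
    (x : 𝟙_ (Over (Spec (CommRingCat.of k))) ⟶ X) :
    IsClosed (Set.range (a.orbitMap x).left) := by
  obtain ⟨H, _, r, _, _, _, -, _⟩ := BorelFix21.exists_reduced_subgroup G
  haveI : IsAffine H.left := isAffine_of_isAffineHom r.left
  haveI : LocallyOfFiniteType H.hom := inferInstance
  obtain ⟨H₀, _, j, _, _, _⟩ := BorelFix21.exists_identity_component H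
  haveI : IsClosedImmersion j.left := InvRing21.isClosedImmersion_of_open_subgroup j
  haveI : IsAffine H₀.left := isAffine_of_isAffineHom j.left
  haveI : Smooth H₀.hom := by rw [← Over.w j]; infer_instance
  haveI : IsMonHom (j ≫ r) := inferInstance
  haveI : Mono (j ≫ r) := by
    haveI : Mono j := Over.mono_of_mono_left j
    haveI : Mono r := Over.mono_of_mono_left r
    exact mono_comp _ _
  have hH₀ : Red.HasNoSubtorus k H₀ := fun T _ t _ _ hT => hG T (t ≫ j ≫ r) hT
  obtain ⟨s, hs⟩ := InvRing21.exists_finite_cosets j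
  let a₀ := comap a (j ≫ r)
  haveI : IsIso (toUnit kp) := by
    haveI : IsIso ((Over.forget _).map (toUnit kp)) := by
      show IsIso (Spec.map (CommRingCat.ofHom (algebraMap k k)))
      rw [Algebra.algebraMap_self, CommRingCat.ofHom_id, Spec.map_id]
      infer_instance
    exact isIso_of_reflects_iso (toUnit kp) (Over.forget _)
  let pc : (kp ⟶ H) → (𝟙_ (Over (Spec (CommRingCat.of k))) ⟶ X) := fun c =>
    inv (toUnit kp) ≫ c ≫ r ≫ a.orbitMap x
  let U : Set X.left := ⋃ c ∈ s, Set.range (a₀.orbitMap (pc c)).left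
  have hU : IsClosed U := s.finite_toSet.isClosed_biUnion fun c _ => isClosed_orbit hH₀ a₀ (pc c)
  have hle : U ⊆ Set.range (a.orbitMap x).left := by
    refine Set.iUnion₂_subset fun c _ => ?_
    rw [orbitMap_comap, Over.comp_left]
    refine (Set.range_comp_subset_range _ _).trans ?_
    let cG : 𝟙_ (Over (Spec (CommRingCat.of k))) ⟶ G := inv (toUnit kp) ≫ c ≫ r
    have : a.orbitMap (pc c) = ((𝟙 G) * (toUnit G ≫ cG)) ≫ a.orbitMap x := by
      rw [AlgGrp.Action.comp_orbitMap, AlgGrpBasic19.act_mul]
      show lift (𝟙 G) (toUnit G ≫ pc c) ≫ a.act = _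
      congr 2
      show toUnit G ≫ inv (toUnit kp) ≫ c ≫ r ≫ a.orbitMap x = _
      have e : toUnit G ≫ cG ≫ a.orbitMap x = lift (toUnit G ≫ cG) (toUnit G ≫ x) ≫ a.act := by
        rw [← Category.assoc, AlgGrp.Action.comp_orbitMap]
      rw [← e]
      simp only [cG, Category.assoc]
    rw [this]
    rintro _ ⟨w, rfl⟩
    exact ⟨_, rfl⟩
  suffices Set.range (a.orbitMap x).left ⊆ U by rwa [this.antisymm hle]
  have hsurj : Set.range (a.orbitMap x).left = Set.range (r ≫ a.orbitMap x).left := by
    rw [Over.comp_left]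
    exact (Function.Surjective.range_comp r.left.surjective _).symm
  rw [hsurj, Set.range_subset_iff]
  by_contra hne
  push_neg at hne
  obtain ⟨h, hh⟩ := BorelFix21.exists_pt_mem
    (hU.preimage (r ≫ a.orbitMap x).left.continuous).isOpen_compl.isLocallyClosed hne
  refine hh ?_
  obtain ⟨c, hc, y, hy⟩ := hs h⁻¹
  refine Set.mem_iUnion₂.2 ⟨c, hc, InvRing21.img y⁻¹, ?_⟩
  show (y⁻¹ ≫ a₀.orbitMap (pc c)).left (IsLocalRing.closedPoint k) =
    (h ≫ r ≫ a.orbitMap x).left (IsLocalRing.closedPoint k)
  refine congrArg (fun m : kp ⟶ X => m.left (IsLocalRing.closedPoint k)) ?_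
  have e1 : toUnit kp ≫ pc c = lift (c ≫ r) (toUnit kp ≫ x) ≫ a.act := by
    show toUnit kp ≫ inv (toUnit kp) ≫ c ≫ r ≫ a.orbitMap x = _
    rw [IsIso.hom_inv_id_assoc, ← Category.assoc, AlgGrp.Action.comp_orbitMap]
  have e2 : h = (y⁻¹ ≫ j) * c := by
    rw [GrpObj.inv_comp, hy, _root_.mul_inv_rev, _root_.inv_inv, inv_mul_cancel_right]
  rw [orbitMap_comap, ← Category.assoc y⁻¹, ← Category.assoc (y⁻¹), AlgGrp.Action.comp_orbitMap, e1,
    ← AlgGrpBasic19.act_mul, ← Category.assoc h, AlgGrp.Action.comp_orbitMap, e2, MonObj.mul_comp,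
    Category.assoc]

/-- Orbits of a unipotent group on a quasi-affine scheme are closed. -/
theorem isClosed_orbit_of_isUnipotent {k : Type u} [Field k] (A : Type u) [CommRing A] [HopfAlgebra k A]
    [Algebra.FiniteType k A] (hU : HopfRep.IsUnipotent k A) {X : Over (Spec (CommRingCat.of k))}
    [LocallyOfFiniteType X.hom] (hX : Mor2.IsQuasiAffine X.hom)
    (a : AlgGrp.Action (CoactBr.sp k A) X) (x : 𝟙_ (Over (Spec (CommRingCat.of k))) ⟶ X) :
    IsClosed (Set.range (a.orbitMap x).left) := by
  let K := AlgebraicClosure k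
  let φ := Spec.map (CommRingCat.ofHom (algebraMap k K))
  let F := Over.pullback φ
  haveI : X.left.IsQuasiAffine := by
    have h := hX.2 ⊤ (isAffineOpen_top _)
    rw [Scheme.Hom.preimage_top] at h
    haveI := hX.1
    haveI : CompactSpace X.left := (quasiCompact_iff_compactSpace X.hom).1 hX.1
    exact Scheme.IsQuasiAffine.of_isImmersion (Scheme.topIso X.left).inv
  letI : GrpObj (F.obj (CoactBr.sp k A)) := Functor.grpObjObj
  haveI : IsAffine (CoactBr.sp k A).left := inferInstanceAs (IsAffine (Spec (CommRingCat.of A)))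
  haveI : IsAffineHom φ := inferInstance
  haveI : IsAffineHom (pullback.fst X.hom φ) := MorphismProperty.pullback_fst _ _ inferInstance
  haveI : IsAffineHom (pullback.fst (CoactBr.sp k A).hom φ) := MorphismProperty.pullback_fst _ _ inferInstance
  haveI : IsAffine (pullback (CoactBr.sp k A).hom φ) := isAffine_of_isAffineHom (pullback.fst (CoactBr.sp k A).hom φ)
  haveI : IsAffine (F.obj (CoactBr.sp k A)).left := inferInstanceAs (IsAffine (pullback (CoactBr.sp k A).hom φ))
  haveI : LocallyOfFiniteType (CoactBr.sp k A).hom :=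
    (HasRingHomProperty.Spec_iff (P := @LocallyOfFiniteType)).2
      (RingHom.finiteType_algebraMap.2 ‹Algebra.FiniteType k A›)
  haveI : LocallyOfFiniteType (F.obj (CoactBr.sp k A)).hom :=
    inferInstanceAs (LocallyOfFiniteType (pullback.snd (CoactBr.sp k A).hom φ))
  haveI : LocallyOfFiniteType (F.obj X).hom := inferInstanceAs (LocallyOfFiniteType (pullback.snd X.hom φ))
  haveI : (F.obj X).left.IsQuasiAffine := Scheme.IsQuasiAffine.of_isAffineHom (pullback.fst X.hom φ)
  have hno : Red.HasNoSubtorus K (F.obj (CoactBr.sp k A)) := by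
    intro T _ t _ _ hT
    have h1 : t = 1 := RedCtr21.eq_one_of_unipotent t hU
      (MTRigid29.isMT_of_ft (TorPts21.isMultTypeFT_of_isTorus hT))
    have h2 : toUnit T ≫ η[T] = 𝟙 T := by
      rw [← cancel_mono t, Category.assoc, IsMonHom.one_hom, Category.id_comp, h1, Hom.one_def]
    haveI : IsIso (toUnit T) := ⟨η[T], h2, toUnit_unique _ _⟩
    show IsIso T.hom
    exact inferInstanceAs (IsIso ((Over.forget _).map (toUnit T)))
  have h := isClosed_orbit_of_noSubtorus hno (OrbitTop19.mapAction F a) (Functor.LaxMonoidal.ε F ≫ F.map x)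
  rw [show (OrbitTop19.mapAction F a).orbitMap (Functor.LaxMonoidal.ε F ≫ F.map x) = F.map (a.orbitMap x) from
    OrbitTop19.map_orbitMap F a x, OrbitTop19.range_pullback_map] at h
  let π := pullback.fst X.hom φ
  have hπq : Topology.IsQuotientMap π := π.isOpenMap.isQuotientMap π.continuous π.surjective
  exact hπq.isClosed_preimage.1 h

end Groth.Agent.QAffOrb15
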